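import Cfsg.Agent.H239.RIM.Gen
import Cfsg.Agent.H239.RIM.Blk
import Cfsg.Agent.H908.RIM.ESeven
import Cfsg.Agent.H53.HC.TwoE6
import Cfsg.Agent.H325.RIM.Surv

/-!
# RIM-L-E6 (S4816, helper239): `E₆(q)`, cross characteristic

`nb_E6` : `NBall p S` for `S` isomorphic to `E₆(q)`, `p` not the characteristic, `p ∣ |S|` (all such `p` prime to the order
of the kernel).

`J` = all nodes but `3` = `A₂ + A₂ + A₁` = `{2, 0} ∪ ({4, 5} ∪ {1})`. In the cover the chain `0, 2, 3, 4, 5` gives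
`φ : SL₆(F) →* E` with central kernel. If `λ` is not trivial on `Z ∩ M_J`, then `Z = ⟨z⟩` with
`z = y₁ y₂`, `y₁ = φ(diag(a, a, a, 1, 1, 1))`, `y₂ = φ(diag(1, 1, 1, a, a, a))`, and `M_{2,0}` meets `M_{4,5} M_{1}`
trivially: take a cuspidal character of `M_{2,0}` over `λ` and cuspidal characters of the two other components which are
trivial on the centres; an element of `W ∖ W_J` permuting `J` interchanges the two components of type `A₂`, so it does not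
fix the product. Otherwise the cuspidal characters trivial on the centre (`two_cusp`).
-/

set_option autoImplicit false
set_option linter.unusedSectionVars false

open scoped ComplexConjugate
open Cfsg

namespace Cfsg.Agent.H239.RIM

open Cfsg.Agent.Characters Cfsg.Agent.H53.HC CoxeterSystem Cfsg.Agent.ChevalleyStructure.CoxeterGeom Cfsg.Agent.Tits.Roots
  Cfsg.Agent.Tits.Core Cfsg.Agent.Tits.Exchange Cfsg.Agent.Nodes.Reps Cfsg.Agent.Nodes.BNOf Cfsg.Agent.Nodes.StabComb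
  Cfsg.Agent.Nodes.Bruhat Cfsg.Agent.Nodes.OppDec Cfsg.Agent.Nodes.LeviDec Cfsg.Agent.Nodes.RGDLift
open Cfsg.Agent.H53.HC.ExcIM Cfsg.Agent.H53.HC.ExcRows Cfsg.Agent.H53.HC.TwoRows Cfsg.Agent.H35.ExcIdx Cfsg.Lie
  Cfsg.Agent.Nodes.RGDChev Cfsg.Agent.ChevalleyStructure.CoxeterGeomTypes
open Cfsg.Agent.H622.Levi (Co exists_co mem_center_of_ker)
open Cfsg.Agent.H908.RIM (CenExp cenExp_chain cenExp_node cenExp_of_co exists_irr_over lift_all ker_le_T nbAll_of)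
open Matrix

universe u v

/-! ### the Weyl group -/

theorem sr_inj {I : Type*} [DecidableEq I] {i k : I} (hik : (sr i : I → ℤ) = sr k) : i = k := by
  by_contra hne
  have := congrFun hik i
  rw [sr_self, sr_ne hne] at this
  exact one_ne_zero this

/-- the elements of `W ∖ W_J` permuting `J` interchange the components of type `A₂` -/
theorem swap6 [Finite CoxeterMatrix.E₆.Group] {w : CoxeterMatrix.E₆.Group}
    (hw : Perm CoxeterMatrix.E₆.toCoxeterSystem hpE6.isCartan ({i | i ≠ 3} : Set (Fin 6)) w)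
    (hwJ : w ∉ WJ CoxeterMatrix.E₆.toCoxeterSystem ({i | i ≠ 3} : Set (Fin 6))) :
    rep CoxeterMatrix.E₆.toCoxeterSystem hpE6.isCartan w (sr 2) = sr 5 ∧
      rep CoxeterMatrix.E₆.toCoxeterSystem hpE6.isCartan w (sr 0) = sr 4 := by
  have hM := hpE6.isCartan
  have hk : IsoPair (cartanOf chevE6 6) ({i | i ≠ 3} : Set (Fin 6)) 2 0 :=
    isoPair_of hM (by decide) (by decide) (by decide +kernel) (by decide +kernel)
  have hl : IsoPair (cartanOf chevE6 6) ({i | i ≠ 3} : Set (Fin 6)) 4 5 :=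
    isoPair_of hM (by decide) (by decide) (by decide +kernel) (by decide +kernel)
  rcases swap_or (cs := CoxeterMatrix.E₆.toCoxeterSystem) (h := hM) (j := 3) (fun i => Iff.rfl) hk hl
      (by decide +kernel) (by decide +kernel) (by decide +kernel) (by decide +kernel)
      (fun a b hab => by
        obtain ⟨h1, h2, h3, h4⟩ := of_isoPair hM hab
        exact un6 a b h1 h2 h3 h4) hw hwJ with ⟨h0, h1⟩ | ⟨h0, h1⟩
  · -- both components are reversed: impossible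
    exfalso
    have h2 := rep_mod (cs := CoxeterMatrix.E₆.toCoxeterSystem) (h := hM) w u6_dvd 0
    have hz : ∀ i : Fin 6, i ≠ 3 → i ≠ 2 → rep CoxeterMatrix.E₆.toCoxeterSystem hM w (sr i) 0 = 0 := by
      intro i hi3 hi2
      obtain ⟨k, -, e⟩ := hw.2 i hi3
      rw [e]
      refine sr_ne ?_
      rintro rfl
      apply hi2
      have h5 := congrArg (rep CoxeterMatrix.E₆.toCoxeterSystem hM w⁻¹) (e.trans h0.symm)
      rw [rep_inv_apply, rep_inv_apply] at h5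
      exact sr_inj h5
    have e : rep CoxeterMatrix.E₆.toCoxeterSystem hM w u6 0 = 2 := by
      rw [eq_sum_sr u6, map_sum, Finset.sum_apply]
      simp only [map_smul, Pi.smul_apply, smul_eq_mul, Fin.sum_univ_six]
      rw [h0, hz 0 (by decide) (by decide), hz 1 (by decide) (by decide), hz 4 (by decide) (by decide),
        hz 5 (by decide) (by decide), sr_self]
      simp [u6]
    rw [e] at h2
    revert h2
    simp [u6]
  · exact ⟨h0, h1⟩

/-! ### groups -/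

theorem cen_left {Y : Type*} [Group Y] {H K : Subgroup Y} (hc : ∀ a ∈ H, ∀ b ∈ K, a * b = b * a) {x y : Y}
    (hy : y ∈ K) (hxy : ∀ a ∈ H, (x * y) * a = a * (x * y)) : ∀ a ∈ H, x * a = a * x := by
  intro a ha
  have h1 := hxy a ha
  have h2 := hc a ha y hy
  have h3 : x * a * y = a * x * y := by
    calc x * a * y = x * (a * y) := by group
      _ = x * (y * a) := by rw [h2]
      _ = (x * y) * a := by group
      _ = a * (x * y) := h1
      _ = a * x * y := by group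
  exact mul_right_cancel h3

theorem cen_right {Y : Type*} [Group Y] {H K : Subgroup Y} (hc : ∀ a ∈ H, ∀ b ∈ K, a * b = b * a) {x y : Y}
    (hx : x ∈ H) (hxy : ∀ b ∈ K, (x * y) * b = b * (x * y)) : ∀ b ∈ K, y * b = b * y := by
  intro b hb
  have h1 := hxy b hb
  have h2 := hc x hx b hb
  have h3 : x * (y * b) = x * (b * y) := by
    calc x * (y * b) = (x * y) * b := by group
      _ = b * (x * y) := h1
      _ = (b * x) * y := by group
      _ = (x * b) * y := by rw [h2]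
      _ = x * (b * y) := by group
  exact mul_left_cancel h3

theorem pow_of_dvd {Y : Type*} [Group Y] {x : Y} {e n : ℕ} (hx : x ^ e = 1) (h : e ∣ n) : x ^ n = 1 := by
  obtain ⟨k, rfl⟩ := h
  rw [pow_mul, hx, one_pow]

/-- a cube root of unity is a power of a given one -/
theorem cube_cases {F : Type*} [Field F] {a b : F} (ha : a ^ 3 = 1) (ha1 : a ≠ 1) (hb : b ^ 3 = 1) :
    b = 1 ∨ b = a ∨ b = a ^ 2 := by
  have h1 : a ^ 2 + a + 1 = 0 := by
    have : (a - 1) * (a ^ 2 + a + 1) = 0 := by linear_combination ha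
    exact (mul_eq_zero.1 this).resolve_left (sub_ne_zero.2 ha1)
  have h2 : (b - 1) * ((b - a) * (b - a ^ 2)) = 0 := by
    linear_combination hb - (b - 1) * b * h1 + (b - 1) * ha
  rcases mul_eq_zero.1 h2 with h3 | h3
  · left; exact sub_eq_zero.1 h3
  · rcases mul_eq_zero.1 h3 with h3 | h3
    · right; left; exact sub_eq_zero.1 h3
    · right; right; exact sub_eq_zero.1 h3

theorem hk5 : ∀ i j, m6 (k5 i) (k5 j) = mA 5 i j := by decide +kernel
theorem hk1 : ∀ i j, m6 (k1 i) (k1 j) = mA 2 i j := by decide +kernel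
theorem hk2 : ∀ i j, m6 (k2 i) (k2 j) = mA 2 i j := by decide +kernel

theorem hoK : Orth (cartanOf chevE6 6) ({2, 0} : Set (Fin 6)) ({4, 5} ∪ {1}) :=
  orth_of hpE6.isCartan fun i hi i' hi' => or6a i (by simpa using hi) i' (by simpa [or_comm, or_assoc] using hi')

theorem hoL : Orth (cartanOf chevE6 6) ({4, 5} : Set (Fin 6)) {1} :=
  orth_of hpE6.isCartan fun i hi i' hi' => or6b i (by simpa using hi) i' (by simpa using hi')

section main

variable {Y : Type v} [Group Y] {r : ℕ} {T : Subgroup Y} {n : Fin 6 → Y} {X : (Fin 6 → ℤ) → Subgroup Y}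
  [Finite CoxeterMatrix.E₆.Group] [Finite Y]

/-- the data of the case of a non-trivial central character -/
structure Dat (X : (Fin 6 → ℤ) → Subgroup Y) (z : Y) {F : Type} [Field F]
    (φ : SpecialLinearGroup (Fin (5 + 1)) F →* Y) (a : F) (g : SpecialLinearGroup (Fin 3) F) : Prop where
  co : Co X k5 F φ
  ga : g.1 = scalar (Fin 3) a
  a1 : a ≠ 1
  eq : z = φ (bl1 g) * φ (bl2 g)
  z3 : z ^ 3 = 1
  z1 : z ≠ 1

variable (R : RGD CoxeterMatrix.E₆.toCoxeterSystem hpE6.isCartan r T n X)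

include R

theorem exists_dat {q : ℕ} (hq : ∀ i, Nat.card (X (sr i)) = q) {z : Y} (hz : z ∈ Subgroup.center Y) (hz3 : z ^ 3 = 1)
    (hz1 : z ≠ 1) (hzM : z ∈ MJ CoxeterMatrix.E₆.toCoxeterSystem hpE6.isCartan X ({2, 0} ∪ ({4, 5} ∪ {1}))) :
    ∃ (F : Type) (_ : Field F) (_ : Finite F) (φ : SpecialLinearGroup (Fin (5 + 1)) F →* Y) (a : F)
      (g : SpecialLinearGroup (Fin 3) F), Dat X z φ a g := by
  obtain ⟨F, _, _, φ, C⟩ := exists_co R (m := 5) (by norm_num) k5 hk5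
  have hcomK := hoK.comm R
  have hcomL := hoL.comm R
  have hzc : ∀ y, z * y = y * z := fun y => (Subgroup.mem_center_iff.1 hz y).symm
  obtain ⟨y₁, hy₁, y₂₃, hy₂₃, e⟩ := exists_mul R hoK z hzM
  obtain ⟨y₂, hy₂, y₃, hy₃, rfl⟩ := exists_mul R hoL y₂₃ hy₂₃
  have c1 : ∀ a ∈ MJ CoxeterMatrix.E₆.toCoxeterSystem hpE6.isCartan X {2, 0}, y₁ * a = a * y₁ :=
    cen_left hcomK hy₂₃ fun a _ => by rw [← e]; exact hzc a
  have c23 : ∀ b ∈ MJ CoxeterMatrix.E₆.toCoxeterSystem hpE6.isCartan X ({4, 5} ∪ {1}), (y₂ * y₃) * b = b * (y₂ * y₃) :=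
    cen_right hcomK hy₁ fun b _ => by rw [← e]; exact hzc b
  have hle2 : MJ CoxeterMatrix.E₆.toCoxeterSystem hpE6.isCartan X {4, 5} ≤
      MJ CoxeterMatrix.E₆.toCoxeterSystem hpE6.isCartan X ({4, 5} ∪ {1}) := by
    rw [hoL.MJ_union]; exact le_sup_left
  have hle3 : MJ CoxeterMatrix.E₆.toCoxeterSystem hpE6.isCartan X {1} ≤
      MJ CoxeterMatrix.E₆.toCoxeterSystem hpE6.isCartan X ({4, 5} ∪ {1}) := by
    rw [hoL.MJ_union]; exact le_sup_right
  have c2 : ∀ a ∈ MJ CoxeterMatrix.E₆.toCoxeterSystem hpE6.isCartan X {4, 5}, y₂ * a = a * y₂ :=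
    cen_left hcomL hy₃ fun a ha => c23 a (hle2 ha)
  have c3 : ∀ a ∈ MJ CoxeterMatrix.E₆.toCoxeterSystem hpE6.isCartan X {1}, y₃ * a = a * y₃ :=
    cen_right hcomL hy₂ fun a ha => c23 a (hle3 ha)
  have x1 := cenExp_chain R (by norm_num) k1 hk1 0 (hq _)
  have x2 := cenExp_chain R (by norm_num) k2 hk2 0 (hq _)
  have x3 := cenExp_node R 1 3 (by decide +kernel) (hq _)
  rw [range_k1] at x1
  rw [range_k2] at x2
  have p1 : y₁ ^ 3 = 1 := pow_of_dvd (x1 y₁ hy₁ c1) (Nat.gcd_dvd_left _ _)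
  have p2 : y₂ ^ 3 = 1 := pow_of_dvd (x2 y₂ hy₂ c2) (Nat.gcd_dvd_left _ _)
  have p3 : y₃ ^ 2 = 1 := pow_of_dvd (x3 y₃ hy₃ c3) (Nat.gcd_dvd_left _ _)
  have e2 : z = y₁ * y₂ := by
    have h1 : z ^ 4 = z := by rw [pow_succ, hz3, one_mul]
    have h2 : z ^ 4 = y₁ ^ 4 * (y₂ ^ 4 * y₃ ^ 4) := by
      have k1 : Commute y₁ (y₂ * y₃) := hcomK y₁ hy₁ _ hy₂₃
      have k2 : Commute y₂ y₃ := hcomL y₂ hy₂ y₃ hy₃
      rw [e, k1.mul_pow, k2.mul_pow]
    rw [← h1, h2, pow_succ y₁, p1, one_mul, pow_succ y₂, p2, one_mul, show (4 : ℕ) = 2 * 2 from rfl, pow_mul, p3,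
      one_pow, mul_one]
  have r1 := (co1 C).range (cs := CoxeterMatrix.E₆.toCoxeterSystem) (h := hpE6.isCartan) hk1 (by norm_num)
  have r2 := (co2 C).range (cs := CoxeterMatrix.E₆.toCoxeterSystem) (h := hpE6.isCartan) hk2 (by norm_num)
  rw [range_k1] at r1
  rw [range_k2] at r2
  have hy₁' : y₁ ∈ (φ.comp (bl1 (F := F))).range := by rw [r1]; exact hy₁
  have hy₂' : y₂ ∈ (φ.comp (bl2 (F := F))).range := by rw [r2]; exact hy₂
  obtain ⟨g₁, hg₁⟩ := hy₁'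
  obtain ⟨g₂, hg₂⟩ := hy₂'
  rw [MonoidHom.comp_apply] at hg₁ hg₂
  have e3 : z = φ (bl1 g₁ * bl2 g₂) := by rw [e2, ← hg₁, ← hg₂, map_mul]
  have hcen := mem_center_of_ker (m := 5) (by norm_num) C.ker (g := bl1 g₁ * bl2 g₂) fun s => by
    rw [← e3]; exact hzc _
  obtain ⟨a, ha1, ha2⟩ := bl_center hcen
  have hg : g₁ = g₂ := Subtype.ext (ha1.trans ha2.symm)
  refine ⟨F, inferInstance, inferInstance, φ, a, g₁, C, ha1, ?_, ?_, hz3, hz1⟩
  · rintro rfl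
    apply hz1
    have h1 : g₁ = 1 := by
      apply Subtype.ext
      rw [ha1, map_one]
      rfl
    rw [e3, ← hg, h1, map_one, map_one, mul_one, map_one]
  · rw [e3, ← hg, map_mul]

omit R in
/-- the injectivity on the scalars of order three -/
theorem Dat.inj {z : Y} {F : Type} [Field F] {φ : SpecialLinearGroup (Fin (5 + 1)) F →* Y} {a : F}
    {g : SpecialLinearGroup (Fin 3) F} (D : Dat X z φ a g) {b : F} {x y : SpecialLinearGroup (Fin 3) F}
    (hx : x.1 = scalar (Fin 3) b) (hy : y.1 = scalar (Fin 3) b) (h : φ (bl1 x * bl2 y) = 1) : b = 1 := by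
  have hcube : ∀ {c : F} {u : SpecialLinearGroup (Fin 3) F}, u.1 = scalar (Fin 3) c → c ^ 3 = 1 := by
    intro c u hu
    have h1 : u.1.det = 1 := u.2
    rw [hu, scalar_apply, det_diagonal] at h1
    simpa using h1
  have hxy : x = y := Subtype.ext (hx.trans hy.symm)
  rw [← hxy] at h
  rcases cube_cases (hcube D.ga) D.a1 (hcube hx) with h1 | h1 | h1
  · exact h1
  · exfalso
    have h2 : x = g := Subtype.ext (by rw [hx, D.ga, h1])
    rw [h2, map_mul, ← D.eq] at h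
    exact D.z1 h
  · exfalso
    have h2 : x = g * g := by
      apply Subtype.ext
      change x.1 = g.1 * g.1
      rw [hx, D.ga, h1, ← map_mul, pow_two]
    have h3 : bl1 x * bl2 x = (bl1 g * bl2 g) * (bl1 g * bl2 g) := by
      rw [h2, map_mul, map_mul]
      calc bl1 g * bl1 g * (bl2 g * bl2 g) = bl1 g * (bl1 g * bl2 g) * bl2 g := by group
        _ = bl1 g * (bl2 g * bl1 g) * bl2 g := by rw [bl_comm]
        _ = (bl1 g * bl2 g) * (bl1 g * bl2 g) := by group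
    rw [h3, map_mul, map_mul, ← D.eq] at h
    have h4 : z ^ 3 = z := by rw [pow_succ, pow_two, h, one_mul]
    exact D.z1 (by rw [← h4, D.z3])

/-- **The components meet trivially.** -/
theorem disj {q : ℕ} (hq : ∀ i, Nat.card (X (sr i)) = q) {z : Y} {F : Type} [Field F]
    {φ : SpecialLinearGroup (Fin (5 + 1)) F →* Y} {a : F}
    {g : SpecialLinearGroup (Fin 3) F} (D : Dat X z φ a g) {x : Y}
    (h1 : x ∈ MJ CoxeterMatrix.E₆.toCoxeterSystem hpE6.isCartan X {2, 0})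
    (h2 : x ∈ MJ CoxeterMatrix.E₆.toCoxeterSystem hpE6.isCartan X ({4, 5} ∪ {1})) : x = 1 := by
  have hcomK := hoK.comm R
  have hcomL := hoL.comm R
  have hle2 : MJ CoxeterMatrix.E₆.toCoxeterSystem hpE6.isCartan X {4, 5} ≤
      MJ CoxeterMatrix.E₆.toCoxeterSystem hpE6.isCartan X ({4, 5} ∪ {1}) := by
    rw [hoL.MJ_union]; exact le_sup_left
  have hle3 : MJ CoxeterMatrix.E₆.toCoxeterSystem hpE6.isCartan X {1} ≤
      MJ CoxeterMatrix.E₆.toCoxeterSystem hpE6.isCartan X ({4, 5} ∪ {1}) := by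
    rw [hoL.MJ_union]; exact le_sup_right
  have x1 := cenExp_chain R (by norm_num) k1 hk1 0 (hq _)
  have x2 := cenExp_chain R (by norm_num) k2 hk2 0 (hq _)
  have x3 := cenExp_node R 1 3 (by decide +kernel) (hq _)
  rw [range_k1] at x1
  rw [range_k2] at x2
  have p1 : x ^ 3 = 1 := pow_of_dvd (x1 x h1 fun y hy => (hcomK y hy x h2).symm) (Nat.gcd_dvd_left _ _)
  obtain ⟨y₂, hy₂, y₃, hy₃, e⟩ := exists_mul R hoL x h2
  have c2 : ∀ a ∈ MJ CoxeterMatrix.E₆.toCoxeterSystem hpE6.isCartan X {4, 5}, y₂ * a = a * y₂ :=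
    cen_left hcomL hy₃ fun a ha => by rw [← e]; exact hcomK x h1 a (hle2 ha)
  have c3 : ∀ a ∈ MJ CoxeterMatrix.E₆.toCoxeterSystem hpE6.isCartan X {1}, y₃ * a = a * y₃ :=
    cen_right hcomL hy₂ fun a ha => by rw [← e]; exact hcomK x h1 a (hle3 ha)
  have p2 : y₂ ^ 3 = 1 := pow_of_dvd (x2 y₂ hy₂ c2) (Nat.gcd_dvd_left _ _)
  have p3 : y₃ ^ 2 = 1 := pow_of_dvd (x3 y₃ hy₃ c3) (Nat.gcd_dvd_left _ _)
  have e2 : x = y₂ := by
    have h3 : x ^ 4 = x := by rw [pow_succ, p1, one_mul]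
    have h4 : x ^ 4 = y₂ ^ 4 * y₃ ^ 4 := by
      have k2 : Commute y₂ y₃ := hcomL y₂ hy₂ y₃ hy₃
      rw [e, k2.mul_pow]
    rw [← h3, h4, pow_succ y₂, p2, one_mul, show (4 : ℕ) = 2 * 2 from rfl, pow_mul, p3, one_pow, mul_one]
  have r1 := (co1 D.co).range (cs := CoxeterMatrix.E₆.toCoxeterSystem) (h := hpE6.isCartan) hk1 (by norm_num)
  have r2 := (co2 D.co).range (cs := CoxeterMatrix.E₆.toCoxeterSystem) (h := hpE6.isCartan) hk2 (by norm_num)
  rw [range_k1] at r1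
  rw [range_k2] at r2
  have hx' : x ∈ (φ.comp (bl1 (F := F))).range := by rw [r1]; exact h1
  have hy₂' : y₂ ∈ (φ.comp (bl2 (F := F))).range := by rw [r2]; exact hy₂
  obtain ⟨g₁, hg₁⟩ := hx'
  obtain ⟨g₂, hg₂⟩ := hy₂'
  rw [MonoidHom.comp_apply] at hg₁ hg₂
  have e3 : φ (bl1 g₁ * bl2 g₂⁻¹) = 1 := by
    rw [map_mul, map_inv, map_inv, hg₁, hg₂, ← e2, mul_inv_cancel]
  obtain ⟨b, hb1, hb2⟩ := bl_center (D.co.ker e3)
  have hb := D.inj hb1 hb2 e3
  have h5 : g₁ = 1 := by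
    apply Subtype.ext
    rw [hb1, hb, map_one]
    rfl
  rw [← hg₁, h5, map_one, map_one]

/-- **The characters over a central character which is not trivial on `M_J`.** -/
theorem over_in (hG : GG CoxeterMatrix.E₆.toCoxeterSystem hpE6.isCartan T X = ⊤) {q : ℕ}
    (hq : ∀ i, Nat.card (X (sr i)) = q) {Z : Subgroup Y} (hZ : Z ≤ Subgroup.center Y) (hZT : Z ≤ T)
    (hZ3 : Nat.card Z = 3) (l : Z →* ℂˣ) {z : Y} (hz : z ∈ Z)
    (hzM : z ∈ MJ CoxeterMatrix.E₆.toCoxeterSystem hpE6.isCartan X ({2, 0} ∪ ({4, 5} ∪ {1}))) (hl : l ⟨z, hz⟩ ≠ 1) :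
    ∃ χ : Y → ℂ, IsIrrCharacter Y χ ∧ (∀ z : Z, χ z = χ 1 * l z) ∧ ∃ k d t : ℕ,
      χ 1 = ((PJ CoxeterMatrix.E₆.toCoxeterSystem hpE6.isCartan T X {i | i ≠ 3}).index * (k * d) : ℕ) ∧
      d * t = (q - 1) * (q ^ 2 - 1) ∧ t ∣ 3 := by
  classical
  have : Fintype Y := Fintype.ofFinite Y
  have hz1 : z ≠ 1 := by
    rintro rfl
    exact hl (map_one l)
  have hz3 : z ^ 3 = 1 := by
    have h1 : (⟨z, hz⟩ : Z) ^ Nat.card Z = 1 := pow_card_eq_one'
    rw [hZ3] at h1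
    have h2 := congrArg Subtype.val h1
    simpa using h2
  obtain ⟨F, _, _, φ, a, g, D⟩ := exists_dat R hq (hZ hz) hz3 hz1 hzM
  have hcomK := hoK.comm R
  have hcomL := hoL.comm R
  -- the character of the first component
  obtain ⟨ω, hω⟩ : ∃ ω : ℂ, ω = (l ⟨z, hz⟩ : ℂˣ) := ⟨_, rfl⟩
  have hω3 : ω ^ 3 = 1 := by
    have h1 : (⟨z, hz⟩ : Z) ^ 3 = 1 := Subtype.ext (by simpa using hz3)
    rw [hω, ← Units.val_pow_eq_pow_val, ← map_pow, h1, map_one, Units.val_one]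
  have hω1 : ω ≠ 1 := by
    rw [hω]
    intro h1
    exact hl (Units.ext h1)
  obtain ⟨η, hη, hηz, hηs⟩ := exists_eta_over D.ga D.a1 hω3 hω1
  obtain ⟨θ₁, hθ₁, hv₁, hval₁⟩ := exists_desc (cs := CoxeterMatrix.E₆.toCoxeterSystem) (h := hpE6.isCartan)
    (co1 D.co) hk1 (by norm_num) hη (fun x hx => by
      have h1 : x = 1 := bl1_center (D.co.ker hx)
      rw [h1]) hηs
  have r1 : (φ.comp (bl1 (F := F))).range =
      MJ CoxeterMatrix.E₆.toCoxeterSystem hpE6.isCartan X (Set.range k1) :=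
    (co1 D.co).range (cs := CoxeterMatrix.E₆.toCoxeterSystem) (h := hpE6.isCartan) hk1 (by norm_num)
  have r2 : (φ.comp (bl2 (F := F))).range =
      MJ CoxeterMatrix.E₆.toCoxeterSystem hpE6.isCartan X (Set.range k2) :=
    (co2 D.co).range (cs := CoxeterMatrix.E₆.toCoxeterSystem) (h := hpE6.isCartan) hk2 (by norm_num)
  revert θ₁
  rw [range_k1] at r1 ⊢
  rw [range_k2] at r2
  intro θ₁ hθ₁ hv₁ hval₁
  -- the elements
  obtain ⟨y₁, hy₁⟩ : ∃ y, y = φ (bl1 g) := ⟨_, rfl⟩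
  obtain ⟨y₂, hy₂⟩ : ∃ y, y = φ (bl2 g) := ⟨_, rfl⟩
  have hzy : z = y₁ * y₂ := by rw [D.eq, hy₁, hy₂]
  have hm₁ : y₁ ∈ MJ CoxeterMatrix.E₆.toCoxeterSystem hpE6.isCartan X {2, 0} := by
    rw [← r1, hy₁]; exact ⟨g, rfl⟩
  have hm₂ : y₂ ∈ MJ CoxeterMatrix.E₆.toCoxeterSystem hpE6.isCartan X {4, 5} := by
    rw [← r2, hy₂]; exact ⟨g, rfl⟩
  have hle2 : MJ CoxeterMatrix.E₆.toCoxeterSystem hpE6.isCartan X {4, 5} ≤
      MJ CoxeterMatrix.E₆.toCoxeterSystem hpE6.isCartan X ({4, 5} ∪ {1}) := by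
    rw [hoL.MJ_union]; exact le_sup_left
  have hle3 : MJ CoxeterMatrix.E₆.toCoxeterSystem hpE6.isCartan X {1} ≤
      MJ CoxeterMatrix.E₆.toCoxeterSystem hpE6.isCartan X ({4, 5} ∪ {1}) := by
    rw [hoL.MJ_union]; exact le_sup_right
  have hzc : ∀ y, z * y = y * z := fun y => (Subgroup.mem_center_iff.1 (hZ hz) y).symm
  have c1 : ∀ a ∈ MJ CoxeterMatrix.E₆.toCoxeterSystem hpE6.isCartan X {2, 0}, y₁ * a = a * y₁ :=
    cen_left hcomK (hle2 hm₂) fun a _ => by rw [← hzy]; exact hzc a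
  have c2 : ∀ b ∈ MJ CoxeterMatrix.E₆.toCoxeterSystem hpE6.isCartan X ({4, 5} ∪ {1}), y₂ * b = b * y₂ :=
    cen_right hcomK hm₁ fun b _ => by rw [← hzy]; exact hzc b
  have hy₁θ : ∀ x (hx : x ∈ MJ CoxeterMatrix.E₆.toCoxeterSystem hpE6.isCartan X {2, 0}),
      θ₁ ⟨y₁ * x, mul_mem hm₁ hx⟩ = ω * θ₁ ⟨x, hx⟩ := by
    intro x hx
    have hx' : x ∈ (φ.comp (bl1 (F := F))).range := by rw [r1]; exact hx
    obtain ⟨u, hu⟩ := hx'
    rw [hval₁ u ⟨x, hx⟩ hu.symm, hval₁ (g * u) ⟨y₁ * x, mul_mem hm₁ hx⟩ (by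
      change y₁ * x = _
      rw [map_mul, hu, hy₁]
      rfl), hηz]
  -- the other components
  obtain ⟨θ₂, hθ₂, -, d, t, hd, hdt, ht⟩ := H622.Levi.inA2 R (k₀ := 4) (k₁ := 5) (by decide +kernel) (hq 4)
  obtain ⟨θ₃, e₃, -, hθ₃, he₃, -, -⟩ := H622.Levi.cusp_node R 1 3 (by decide +kernel) (hq 1)
  obtain ⟨δ, hδ, hδval⟩ := hθ₂.exists_prod R hoL hθ₃
  have hδ1 : δ 1 = (d * e₃ : ℕ) := by
    obtain ⟨hab, e⟩ := hδval 1 (one_mem _) 1 (one_mem _)
    simp only [mul_one] at e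
    refine e.trans ?_
    have e4 : θ₂ ⟨1, one_mem _⟩ = d := hd
    have e5 : θ₃ ⟨1, one_mem _⟩ = e₃ := he₃
    rw [e4, e5]
    push_cast
    ring
  obtain ⟨ψ, hψ, hψv, hval⟩ := exists_prod_over R hoK hθ₁ hv₁ hδ.irr hδ.van (by
    intro x h1 h2
    have h3 := disj R hq D h1 h2
    subst h3
    congr 1
    congr 1
    exact Subtype.ext inv_one)
  have hleK : MJ CoxeterMatrix.E₆.toCoxeterSystem hpE6.isCartan X {2, 0} ≤
      MJ CoxeterMatrix.E₆.toCoxeterSystem hpE6.isCartan X ({2, 0} ∪ ({4, 5} ∪ {1})) := by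
    rw [hoK.MJ_union]; exact le_sup_left
  have hleL : MJ CoxeterMatrix.E₆.toCoxeterSystem hpE6.isCartan X ({4, 5} ∪ {1}) ≤
      MJ CoxeterMatrix.E₆.toCoxeterSystem hpE6.isCartan X ({2, 0} ∪ ({4, 5} ∪ {1})) := by
    rw [hoK.MJ_union]; exact le_sup_right
  have hvalL : ∀ x (hx : x ∈ MJ CoxeterMatrix.E₆.toCoxeterSystem hpE6.isCartan X ({4, 5} ∪ {1})),
      ψ ⟨x, hleL hx⟩ = θ₁ 1 * δ ⟨x, hx⟩ := by
    intro x hx
    have h1 := hval 1 (one_mem _) x hx (by rw [one_mul]; exact hleL hx)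
    simp only [one_mul] at h1
    exact h1
  have hvalK : ∀ x (hx : x ∈ MJ CoxeterMatrix.E₆.toCoxeterSystem hpE6.isCartan X {2, 0}),
      ψ ⟨x, hleK hx⟩ = θ₁ ⟨x, hx⟩ * δ 1 := by
    intro x hx
    have h1 := hval x hx 1 (one_mem _) (by rw [mul_one]; exact hleK hx)
    simp only [mul_one] at h1
    exact h1
  have hψ1 : ψ 1 = θ₁ 1 * δ 1 := hvalK 1 (one_mem _)
  have hcenL : ∀ x (hx : x ∈ MJ CoxeterMatrix.E₆.toCoxeterSystem hpE6.isCartan X ({4, 5} ∪ {1})),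
      (∀ y ∈ MJ CoxeterMatrix.E₆.toCoxeterSystem hpE6.isCartan X ({4, 5} ∪ {1}), x * y = y * x) →
      (⟨x, hx⟩ : MJ CoxeterMatrix.E₆.toCoxeterSystem hpE6.isCartan X ({4, 5} ∪ {1})) ∈ Subgroup.center _ := by
    intro x hx hxc
    rw [Subgroup.mem_center_iff]
    rintro ⟨y, hy⟩
    exact Subtype.ext (hxc y hy).symm
  -- `z` acts by the scalar `ω`
  have hzψ : ∀ x (hx : x ∈ MJ CoxeterMatrix.E₆.toCoxeterSystem hpE6.isCartan X ({2, 0} ∪ ({4, 5} ∪ {1})))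
      (hzx : z * x ∈ MJ CoxeterMatrix.E₆.toCoxeterSystem hpE6.isCartan X ({2, 0} ∪ ({4, 5} ∪ {1}))),
      ψ ⟨z * x, hzx⟩ = ω * ψ ⟨x, hx⟩ := by
    intro x hx hzx
    obtain ⟨u, hu, v, hv, rfl⟩ := exists_mul R hoK x hx
    have e1 : z * (u * v) = (y₁ * u) * (y₂ * v) := by
      rw [hzy]
      calc y₁ * y₂ * (u * v) = y₁ * (y₂ * u) * v := by group
        _ = y₁ * (u * y₂) * v := by rw [hcomK u hu y₂ (hle2 hm₂)]
        _ = (y₁ * u) * (y₂ * v) := by group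
    have e2 : (⟨z * (u * v), hzx⟩ : MJ CoxeterMatrix.E₆.toCoxeterSystem hpE6.isCartan X ({2, 0} ∪ ({4, 5} ∪ {1}))) =
        ⟨(y₁ * u) * (y₂ * v), e1 ▸ hzx⟩ := Subtype.ext e1
    rw [e2, hval (y₁ * u) (mul_mem hm₁ hu) (y₂ * v) (mul_mem (hle2 hm₂) hv), hval u hu v hv, hy₁θ u hu]
    have e3 := hδ.cen ⟨y₂, hle2 hm₂⟩ (hcenL y₂ (hle2 hm₂) c2) ⟨v, hv⟩
    have e4 : δ ⟨y₂ * v, mul_mem (hle2 hm₂) hv⟩ = δ ⟨v, hv⟩ := e3
    rw [e4, mul_assoc]
  have hzpow : ∀ (k : ℕ) (hk : z ^ k ∈ MJ CoxeterMatrix.E₆.toCoxeterSystem hpE6.isCartan X ({2, 0} ∪ ({4, 5} ∪ {1}))),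
      ψ ⟨z ^ k, hk⟩ = ψ 1 * ω ^ k := by
    intro k
    induction k with
    | zero =>
      intro hk
      have e0 : (⟨z ^ 0, hk⟩ : MJ CoxeterMatrix.E₆.toCoxeterSystem hpE6.isCartan X ({2, 0} ∪ ({4, 5} ∪ {1}))) = 1 :=
        Subtype.ext (pow_zero z)
      rw [e0, pow_zero, mul_one]
    | succ k ih =>
      intro hk
      have hk' := pow_mem hzM k
      have e1 : (⟨z ^ (k + 1), hk⟩ : MJ CoxeterMatrix.E₆.toCoxeterSystem hpE6.isCartan X ({2, 0} ∪ ({4, 5} ∪ {1}))) =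
          ⟨z * z ^ k, mul_mem hzM hk'⟩ := Subtype.ext (pow_succ' z k)
      rw [e1, hzψ _ hk' _, ih hk', pow_succ]
      ring
  obtain ⟨χ, hχ, hχZ, k, hk0, hχ1⟩ := exists_irr_over R hG ({2, 0} ∪ ({4, 5} ∪ {1})) hψ hψv (by
    intro w w' hg hw hp
    have hp' := hp
    have hw' := hw
    rw [← compl6] at hp' hw'
    obtain ⟨s1, s2⟩ := swap6 hp' hw'
    obtain ⟨s3, s4⟩ := swap6 hp'.inv fun hh => hw' (by simpa using inv_mem hh)
    have s3' : rep CoxeterMatrix.E₆.toCoxeterSystem hpE6.isCartan w (sr 5) = sr 2 := by rw [← s3, rep_apply_inv]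
    have s4' : rep CoxeterMatrix.E₆.toCoxeterSystem hpE6.isCartan w (sr 4) = sr 0 := by rw [← s4, rep_apply_inv]
    have hsupp : ∀ (v : CoxeterMatrix.E₆.Group) (i j i' j' : Fin 6),
        rep CoxeterMatrix.E₆.toCoxeterSystem hpE6.isCartan v (sr i) = sr i' →
        rep CoxeterMatrix.E₆.toCoxeterSystem hpE6.isCartan v (sr j) = sr j' →
        ∀ x ∈ RootsJ CoxeterMatrix.E₆.toCoxeterSystem hpE6.isCartan {i, j},
          rep CoxeterMatrix.E₆.toCoxeterSystem hpE6.isCartan v x ∈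
            RootsJ CoxeterMatrix.E₆.toCoxeterSystem hpE6.isCartan {i', j'} := by
      intro v i j i' j' h1 h2 x hx
      refine ⟨hx.1.act _, fun k hk => ?_⟩
      rw [eq_sum_sr x, map_sum, Finset.sum_apply]
      refine Finset.sum_eq_zero fun m _ => ?_
      rw [map_smul, Pi.smul_apply]
      by_cases hm : m ∈ ({i, j} : Set (Fin 6))
      · have hk' : k ≠ i' ∧ k ≠ j' := by
          constructor <;> rintro rfl <;> exact hk (by simp)
        rcases hm with rfl | rfl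
        · rw [h1, sr_ne hk'.1, smul_zero]
        · rw [h2, sr_ne hk'.2, smul_zero]
      · rw [hx.2 m hm, zero_smul]
    -- the conjugate of `y₁`
    have k1 : w'⁻¹ * y₁ * w' ∈ MJ CoxeterMatrix.E₆.toCoxeterSystem hpE6.isCartan X {4, 5} := by
      refine conj_mem_Sup' R hg (S := RootsJ CoxeterMatrix.E₆.toCoxeterSystem hpE6.isCartan {2, 0})
        (S' := RootsJ CoxeterMatrix.E₆.toCoxeterSystem hpE6.isCartan {4, 5}) (fun x hx => hx.1) ?_ hm₁
      intro x hx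
      have := hsupp w⁻¹ 2 0 5 4 s3 s4 x hx
      rwa [Set.pair_comm] at this
    have k2 : ∀ y ∈ MJ CoxeterMatrix.E₆.toCoxeterSystem hpE6.isCartan X {4, 5},
        w' * y * w'⁻¹ ∈ MJ CoxeterMatrix.E₆.toCoxeterSystem hpE6.isCartan X {2, 0} := by
      intro y hy
      have := conj_mem_Sup' R hg.inv (S := RootsJ CoxeterMatrix.E₆.toCoxeterSystem hpE6.isCartan {4, 5})
        (S' := RootsJ CoxeterMatrix.E₆.toCoxeterSystem hpE6.isCartan {2, 0}) (fun x hx => hx.1) (fun x hx => by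
          rw [inv_inv]
          have := hsupp w 4 5 0 2 s4' s3' x hx
          rwa [Set.pair_comm] at this) hy
      rwa [inv_inv] at this
    have k3 : ∀ y ∈ MJ CoxeterMatrix.E₆.toCoxeterSystem hpE6.isCartan X ({4, 5} ∪ {1}),
        (w'⁻¹ * y₁ * w') * y = y * (w'⁻¹ * y₁ * w') := by
      intro y hy
      obtain ⟨u, hu, v, hv, rfl⟩ := exists_mul R hoL y hy
      have f1 : (w'⁻¹ * y₁ * w') * u = u * (w'⁻¹ * y₁ * w') := by
        have f3 := c1 _ (k2 u hu)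
        calc (w'⁻¹ * y₁ * w') * u = w'⁻¹ * (y₁ * (w' * u * w'⁻¹)) * w' := by group
          _ = w'⁻¹ * ((w' * u * w'⁻¹) * y₁) * w' := by rw [f3]
          _ = u * (w'⁻¹ * y₁ * w') := by group
      have f2 := hcomL _ k1 v hv
      calc (w'⁻¹ * y₁ * w') * (u * v) = ((w'⁻¹ * y₁ * w') * u) * v := by group
        _ = (u * (w'⁻¹ * y₁ * w')) * v := by rw [f1]
        _ = u * ((w'⁻¹ * y₁ * w') * v) := by group
        _ = u * (v * (w'⁻¹ * y₁ * w')) := by rw [f2]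
        _ = (u * v) * (w'⁻¹ * y₁ * w') := by group
    refine ⟨y₁, hleK hm₁, ?_⟩
    intro hcon
    have l1 : ψ ⟨w'⁻¹ * y₁ * w', conj_mem_MJ R hg hp (hleK hm₁)⟩ = θ₁ 1 * δ ⟨w'⁻¹ * y₁ * w', hle2 k1⟩ :=
      hvalL _ (hle2 k1)
    have l2 : δ ⟨w'⁻¹ * y₁ * w', hle2 k1⟩ = δ 1 := by
      have := hδ.cen _ (hcenL _ (hle2 k1) k3) 1
      rwa [mul_one] at this
    have l3 : ψ ⟨y₁, hleK hm₁⟩ = ω * θ₁ 1 * δ 1 := by
      rw [hvalK y₁ hm₁]
      have := hy₁θ 1 (one_mem _)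
      simp only [mul_one] at this
      rw [this]
      rfl
    rw [l1, l2, l3] at hcon
    have m1 := Core.isIrr_apply_one_ne_zero hθ₁
    have m2 := Core.isIrr_apply_one_ne_zero hδ.irr
    apply hω1
    have m3 : (ω - 1) * (θ₁ 1 * δ 1) = 0 := by linear_combination -hcon
    exact sub_eq_zero.1 ((mul_eq_zero.1 m3).resolve_right (mul_ne_zero m1 m2))) hZ hZT l (by
    intro x hx hxM
    have : Fact (Nat.Prime 3) := ⟨Nat.prime_three⟩
    have h1 : Subgroup.zpowers (⟨z, hz⟩ : Z) = ⊤ :=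
      zpowers_eq_top_of_prime_card hZ3 fun e => hz1 (congrArg Subtype.val e)
    have h2 : (⟨x, hx⟩ : Z) ∈ Subgroup.zpowers (⟨z, hz⟩ : Z) := by rw [h1]; exact Subgroup.mem_top _
    rw [← mem_powers_iff_mem_zpowers] at h2
    obtain ⟨k, hk⟩ := h2
    have h3 : x = z ^ k := by
      have := congrArg Subtype.val hk
      exact this.symm
    subst h3
    rw [hzpow k hxM]
    have h4 : l ⟨z ^ k, hx⟩ = l ⟨z, hz⟩ ^ k := by
      rw [← map_pow]
      exact congrArg l hk.symm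
    rw [h4, Units.val_pow_eq_pow_val, ← hω])
  obtain ⟨d₁, -, hd₁⟩ := Core.isIrr_apply_one hθ₁
  refine ⟨χ, hχ, hχZ, k * d₁ * e₃, d, t, ?_, hdt, ht⟩
  rw [hχ1, hψ1, hδ1, hd₁, compl6]
  push_cast
  ring

/-- **The characters over a central character which is trivial on `Z ∩ M_J`.** -/
theorem over_out (hG : GG CoxeterMatrix.E₆.toCoxeterSystem hpE6.isCartan T X = ⊤) {q : ℕ}
    (hq : ∀ i, Nat.card (X (sr i)) = q) {Z : Subgroup Y} (hZ : Z ≤ Subgroup.center Y) (hZT : Z ≤ T)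
    (l : Z →* ℂˣ) (hl : ∀ z (hz : z ∈ Z),
      z ∈ MJ CoxeterMatrix.E₆.toCoxeterSystem hpE6.isCartan X ({2, 0} ∪ ({4, 5} ∪ {1})) → l ⟨z, hz⟩ = 1) :
    ∃ χ : Y → ℂ, IsIrrCharacter Y χ ∧ (∀ z : Z, χ z = χ 1 * l z) ∧ ∃ k d t : ℕ,
      χ 1 = ((PJ CoxeterMatrix.E₆.toCoxeterSystem hpE6.isCartan T X {i | i ≠ 3}).index * (k * d) : ℕ) ∧
      d * t = (q - 1) * (q ^ 2 - 1) ∧ t ∣ 3 := by
  classical
  have : Fintype Y := Fintype.ofFinite Y
  obtain ⟨θ, hθ, hns, d, t, hd1, hdt, ht⟩ := H622.Levi.inA2 R (k₀ := 2) (k₁ := 0) (by decide +kernel) (hq 2)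
  obtain ⟨η, e, u, hη, hη1, he, -⟩ := H622.Levi.cusp_node R 1 3 (by decide +kernel) (hq 1)
  obtain ⟨α, α', hα, hα', hne⟩ := H622.Levi.pair R (k₀ := 4) (k₁ := 5) (by decide +kernel)
  obtain ⟨ψ, hψ, hs, b, -, hψ1⟩ := two_cusp R (J := {i | i ≠ 3}) (j := 3) (fun i => Iff.rfl) compl6
    hoK hoL rfl rfl
    (isoPair_of hpE6.isCartan (by decide) (by decide) (by decide +kernel) (by decide +kernel))
    (isoPair_of hpE6.isCartan (by decide) (by decide) (by decide +kernel) (by decide +kernel))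
    (by decide +kernel) (by decide +kernel) (by decide +kernel) (by decide +kernel)
    (fun a b hab => by
      obtain ⟨h1, h2, h3, h4⟩ := of_isoPair hpE6.isCartan hab
      exact un6 a b h1 h2 h3 h4) hθ hns hα hα' hne hη
  obtain ⟨χ, hχ, hχZ, k, hk0, hχ1⟩ := exists_irr_over R hG {i | i ≠ 3} hψ.irr hψ.van hs hZ hZT l (by
    intro x hx hxM
    have h1 : l ⟨x, hx⟩ = 1 := hl x hx (by rw [← compl6]; exact hxM)
    have h2 := hψ.cen ⟨x, hxM⟩ (by
      rw [Subgroup.mem_center_iff]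
      rintro ⟨y, hy⟩
      exact Subtype.ext (Subgroup.mem_center_iff.1 (hZ hx) y)) 1
    rw [mul_one] at h2
    rw [h1, h2, Units.val_one, mul_one])
  refine ⟨χ, hχ, hχZ, k * b, d, t, ?_, hdt, ht⟩
  rw [hχ1, hψ1, hd1]
  push_cast
  ring

end main

/-! ### the row -/

section E6

variable {K : Type} [Field K] [Fintype K] {r f : ℕ} (hr : r.Prime) (hf : f ≠ 0)
  (hK : Fintype.card K = r ^ f) [CharP K r]

include hr hf hK in
/-- **The characters of the covers of `E₆(q)`.** -/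
theorem char_E6 {p : ℕ} (hp : p.Prime) (hpr : p ≠ r) (hd : p ∣ Nat.card ↥(chevE6.group K))
    {E : Type v} [Group E] [Finite E] {π : E →* ↥(chevE6.group K)} (hs : Function.Surjective π)
    (hc : π.ker ≤ Subgroup.center E) (h3 : Nat.card π.ker = 3) (hr3 : r ≠ 3) (lam : π.ker →* ℂˣ) :
    ∃ χ : E → ℂ, IsIrrCharacter E χ ∧ (∀ z : π.ker, χ z = χ 1 * lam z) ∧ ∃ N : ℕ, χ 1 = N ∧ p ∣ N := by
  have := finite_group (K := K) chevE6
  have D := data_E6_3 hr hf hK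
  have := D.fin
  have : Fact r.Prime := ⟨hr⟩
  have hpr' : ¬ p ∣ r := fun h4 => hpr ((Nat.prime_dvd_prime_iff_eq hp hr).1 h4)
  have hco : (Nat.card π.ker).Coprime r := by
    rw [h3]
    exact (Nat.coprime_primes Nat.prime_three hr).2 hr3.symm
  obtain ⟨n', R', hG', hidx, hsize⟩ := lift_all hc hco hs D.rgd D.gg
  have hsz : ∀ i, Nat.card ↥(lft r π (XX chevE6 6 K (sr i))) = r ^ f := fun i => (hsize i).trans (D.size i)
  obtain ⟨χ, hχ, hχZ, k, d, t, hχ1, hdt, ht⟩ : ∃ χ : E → ℂ, IsIrrCharacter E χ ∧ (∀ z : π.ker, χ z = χ 1 * lam z) ∧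
      ∃ k d t : ℕ, χ 1 = ((PJ CoxeterMatrix.E₆.toCoxeterSystem hpE6.isCartan ((TT chevE6 K).comap π)
          (fun x => lft r π (XX chevE6 6 K x)) {i | i ≠ 3}).index * (k * d) : ℕ) ∧
        d * t = (r ^ f - 1) * ((r ^ f) ^ 2 - 1) ∧ t ∣ 3 := by
    by_cases hcase : ∀ z (hz : z ∈ π.ker), z ∈ MJ CoxeterMatrix.E₆.toCoxeterSystem hpE6.isCartan
        (fun x => lft r π (XX chevE6 6 K x)) ({2, 0} ∪ ({4, 5} ∪ {1})) → lam ⟨z, hz⟩ = 1
    · exact over_out R' hG' hsz hc ker_le_T lam hcase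
    · push Not at hcase
      obtain ⟨z, hz, hzM, hlz⟩ := hcase
      exact over_in R' hG' hsz hc ker_le_T h3 lam hz hzM hlz
  refine ⟨χ, hχ, hχZ, _, hχ1, ?_⟩
  by_cases h4 : p ∣ r ^ f - 1
  · have h5 := dvd_of_mul_eq hp (two_le hr hf) h4 ht hdt
    exact Dvd.dvd.mul_left (Dvd.dvd.mul_left h5 _) _
  · rw [hidx]
    exact Dvd.dvd.mul_right (D.idx p hp hd hpr' h4) _

end E6

open Cfsg.Agent.H665.RIM in
/-- **RIM-L-E6**: `E₆(q)`, cross characteristic. -/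
theorem nb_E6 {S : Type u} [Group S] {F : Type} [Field F] [Fintype F] (e : S ≃* ↥(chevE6.group F)) {p : ℕ}
    (hp : p.Prime) (hch : ¬ CharP F p) (hd : p ∣ Nat.card S) : NBall p S := by
  obtain ⟨r, f, hr, hf, hF, hcr⟩ := exists_prime_pow F
  have hpr : p ≠ r := by
    rintro rfl
    exact hch hcr
  have hd' : p ∣ Nat.card ↥(chevE6.group F) := by rwa [← Nat.card_congr e.toEquiv]
  refine nbAll_of e (Cfsg.Agent.H65.MultE.multE6 F hF).1 ?_
  intro E _ _ π hs hc hn h2m _ lam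
  have h3 : Nat.card π.ker = 3 :=
    ((Nat.dvd_prime Nat.prime_three).1 (hn.trans (Nat.gcd_dvd_left _ _))).resolve_left (by omega)
  have hr3 : r ≠ 3 := by
    rintro rfl
    have h4 : Nat.card π.ker ∣ 3 ^ f - 1 := hn.trans (Nat.gcd_dvd_right _ _)
    rw [h3] at h4
    have h5 : 3 ∣ 3 ^ f := dvd_pow_self 3 hf
    have h6 : 1 ≤ 3 ^ f := Nat.one_le_pow _ _ (by norm_num)
    omega
  exact char_E6 hr hf hF hp hpr hd' hs hc h3 hr3 lam

theorem row_e6 (p q : ℕ) (hp : p.Prime) (hpq : ¬ p ∣ q) : H325.RIM.NBRow p (.e6 q) := by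
  intro S _ _ hS hd
  obtain ⟨F, _, _, hF, ⟨e⟩⟩ := hS.real
  refine nb_E6 e hp (fun hch => hpq ?_) hd
  rw [← hF]
  exact (CharP.cast_eq_zero_iff F p _).1 (FiniteField.cast_card_eq_zero F)

/-- the field `e6` of `H325.RIM.RowsNB` -/
theorem row : ∀ p q : ℕ, p.Prime → p ≠ 2 → p ≠ 3 → ¬ p ∣ q → 3 ∣ q - 1 → H325.RIM.NBRow p (.e6 q) :=
  fun p q hp _ _ hpq _ => row_e6 p q hp hpq

end Cfsg.Agent.H239.RIM
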