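import Cfsg.Agent.H239.RIM.SL
import Cfsg.Agent.H908.RIM.Lift

/-!
# Cuspidal characters with non-trivial central characters: descent and products (S4816, helper239)

* `exists_desc` : a cuspidal character of `SL_{m+1}(F)` trivial on the kernel descends to `M_K`;
* `exists_prod_over` : the product of cuspidal characters of `M_K`, `M_K'`, `K`, `K'` orthogonal, which agree on the
  intersection;
* `two_cusp` : the cuspidal characters of `exists_irr_two` which are not fixed by the elements permuting `J`.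
-/

set_option autoImplicit false
set_option linter.unusedSectionVars false

open scoped ComplexConjugate
open Cfsg

namespace Cfsg.Agent.H239.RIM

open Cfsg.Agent.Characters Cfsg.Agent.H53.HC CoxeterSystem Cfsg.Agent.ChevalleyStructure.CoxeterGeom Cfsg.Agent.Tits.Roots
  Cfsg.Agent.Tits.Core Cfsg.Agent.Tits.Exchange Cfsg.Agent.Nodes.Reps Cfsg.Agent.Nodes.BNOf Cfsg.Agent.Nodes.StabComb
  Cfsg.Agent.Nodes.Bruhat Cfsg.Agent.Nodes.OppDec Cfsg.Agent.Nodes.LeviDec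
open Cfsg.Agent.LieRecognition.BNCox (cA)

section desc

open Cfsg.Agent.H622.Levi (Co UU mem_center_of_ker UU_inf_center)
open Matrix

variable {I W Y : Type*} [Fintype I] [DecidableEq I] [Group W] [Group Y] {M : CoxeterMatrix I}
  {cs : CoxeterSystem M W} {A : I → I → ℤ} {h : IsCartan M A}
  {X : (I → ℤ) → Subgroup Y} {m : ℕ} {k : Fin m ↪ I} {F : Type} [Field F] [Finite F]
  {φ : SpecialLinearGroup (Fin (m + 1)) F →* Y}

/-- **Descent of characters** trivial on the kernel. -/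
theorem exists_desc [Finite W] [Finite Y] (C : Co X k F φ) (hk : ∀ i j, M (k i) (k j) = cA m i j) (hm : 1 ≤ m)
    {η : SpecialLinearGroup (Fin (m + 1)) F → ℂ} (hη : IsIrrCharacter _ η)
    (hz : ∀ z ∈ φ.ker, η z = η 1)
    (hs : ∀ i : Fin m, ∀ [Fintype (UU F i)], ∑ g : UU F i, η g = 0) :
    ∃ θ : ↥(MJ cs h X (Set.range k)) → ℂ, IsIrrCharacter _ θ ∧
      (∀ i ∈ Set.range k, ∀ [Fintype (rad cs h X (Set.range k) i)],
        ∑ u : rad cs h X (Set.range k) i, θ ⟨u, rad_le_MJ _ i u.2⟩ = 0) ∧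
      ∀ (g : SpecialLinearGroup (Fin (m + 1)) F) (x : ↥(MJ cs h X (Set.range k))), (x : Y) = φ g →
        θ x = η g := by
  have hran : φ.range = MJ cs h X (Set.range k) := C.range hk hm
  let f : SpecialLinearGroup (Fin (m + 1)) F →* ↥(MJ cs h X (Set.range k)) :=
    φ.codRestrict _ fun g => hran ▸ ⟨g, rfl⟩
  have hf : Function.Surjective f := by
    rintro ⟨y, hy⟩
    rw [← hran] at hy
    obtain ⟨g, rfl⟩ := hy
    exact ⟨g, rfl⟩
  have hfv : ∀ g, (f g : Y) = φ g := fun g => rfl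
  obtain ⟨θ, hθ, hv⟩ := OddOrderCharacters.PF9.Reducible.exists_of_surjective f hf hη (by
    intro g hg
    refine hz g ?_
    rw [MonoidHom.mem_ker, ← hfv, hg]
    rfl)
  refine ⟨θ, hθ, ?_, ?_⟩
  · rintro _ ⟨i, rfl⟩ _
    classical
    have hfin : Fintype (UU F i) := Fintype.ofFinite _
    rw [← hs i]
    symm
    have hmem : ∀ g : UU F i, φ g ∈ rad cs h X (Set.range k) (k i) := by
      intro g
      have h2 : φ g ∈ (UU F i).map φ := ⟨g, g.2, rfl⟩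
      rw [C.map_UU (cs := cs) (h := h) hk i] at h2
      exact h2
    refine Fintype.sum_bijective (fun g : UU F i => (⟨φ g, hmem g⟩ : rad cs h X (Set.range k) (k i)))
      ⟨?_, ?_⟩ _ _ ?_
    · intro g g' hgg
      have h2 : φ g = φ g' := congrArg Subtype.val hgg
      have h3 : (g : SpecialLinearGroup (Fin (m + 1)) F)⁻¹ * g' ∈ φ.ker := by
        rw [MonoidHom.mem_ker, map_mul, map_inv, h2, inv_mul_cancel]
      have h4 := UU_inf_center (mul_mem (inv_mem g.2) g'.2) (C.ker h3)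
      exact Subtype.ext (inv_mul_eq_one.1 h4)
    · rintro ⟨y, hy⟩
      have h2 : y ∈ (UU F i).map φ := by
        rw [C.map_UU (cs := cs) (h := h) hk i]
        exact hy
      obtain ⟨g, hg, rfl⟩ := h2
      exact ⟨⟨g, hg⟩, rfl⟩
    · intro g
      rw [← hv]
      rfl
  · intro g x hx
    rw [← hv]
    congr 1
    exact Subtype.ext (hx.trans (hfv g).symm)

end desc

variable {I W Y : Type*} [Fintype I] [DecidableEq I] [Group W] [Group Y] {M : CoxeterMatrix I}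
  {cs : CoxeterSystem M W} {A : I → I → ℤ} {h : IsCartan M A} {p : ℕ} {T : Subgroup Y} {n : I → Y}
  {X : (I → ℤ) → Subgroup Y}

variable (R : RGD cs h p T n X)

include R

/-- every element of `M_(K ∪ K')` is a product -/
theorem exists_mul [Finite W] {K K' : Set I} (ho : Orth A K K') :
    ∀ x ∈ MJ cs h X (K ∪ K'), ∃ a ∈ MJ cs h X K, ∃ b ∈ MJ cs h X K', x = a * b := by
  have hcomm := ho.comm R
  intro x hx
  rw [ho.MJ_union] at hx
  have hle : MJ cs h X K ≤ Subgroup.normalizer (MJ cs h X K' : Set Y) := by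
    intro a ha
    rw [Subgroup.mem_normalizer_iff]
    intro b
    constructor
    · intro hb
      rw [hcomm a ha b hb, mul_inv_cancel_right]
      exact hb
    · intro hb
      have h1 := hcomm a⁻¹ (inv_mem ha) _ hb
      have h3 : b * a⁻¹ = (a * b * a⁻¹) * a⁻¹ := by rw [← h1]; group
      have h4 : b = a * b * a⁻¹ := mul_right_cancel h3
      rw [h4]
      exact hb
  have h1 : x ∈ ((MJ cs h X K ⊔ MJ cs h X K' : Subgroup Y) : Set Y) := hx
  rw [Subgroup.coe_mul_of_left_le_normalizer_right _ _ hle] at h1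
  obtain ⟨a, ha, b, hb, rfl⟩ := h1
  exact ⟨a, ha, b, hb, rfl⟩

/-- **Products of cuspidal characters** of orthogonal components, which agree on the intersection. -/
theorem exists_prod_over [Finite W] [Finite Y] {K K' : Set I} (ho : Orth A K K') {θ : ↥(MJ cs h X K) → ℂ}
    (hθ : IsIrrCharacter _ θ)
    (hv : ∀ i ∈ K, ∀ [Fintype (rad cs h X K i)], ∑ u : rad cs h X K i, θ ⟨u, rad_le_MJ K i u.2⟩ = 0)
    {θ' : ↥(MJ cs h X K') → ℂ} (hθ' : IsIrrCharacter _ θ')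
    (hv' : ∀ i ∈ K', ∀ [Fintype (rad cs h X K' i)], ∑ u : rad cs h X K' i, θ' ⟨u, rad_le_MJ K' i u.2⟩ = 0)
    (hz : ∀ z : Y, ∀ h1 : z ∈ MJ cs h X K, ∀ h2 : z ∈ MJ cs h X K', θ ⟨z, h1⟩ * θ' ⟨z⁻¹, inv_mem h2⟩ = θ 1 * θ' 1) :
    ∃ ψ : ↥(MJ cs h X (K ∪ K')) → ℂ, IsIrrCharacter _ ψ ∧
      (∀ i ∈ K ∪ K', ∀ [Fintype (rad cs h X (K ∪ K') i)],
        ∑ u : rad cs h X (K ∪ K') i, ψ ⟨u, rad_le_MJ _ i u.2⟩ = 0) ∧
      ∀ (a : Y) (ha : a ∈ MJ cs h X K) (b : Y) (hb : b ∈ MJ cs h X K') (hab : a * b ∈ MJ cs h X (K ∪ K')),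
        ψ ⟨a * b, hab⟩ = θ ⟨a, ha⟩ * θ' ⟨b, hb⟩ := by
  classical
  have hcomm := ho.comm R
  obtain ⟨ψ, hψ, hval⟩ := H908.RIM.exists_prod_char' hcomm hθ hθ' hz
  have hMJ := ho.MJ_union (cs := cs) (h := h) (X := X)
  let e := MulEquiv.subgroupCongr hMJ
  have hval' : ∀ (a : Y) (ha : a ∈ MJ cs h X K) (b : Y) (hb : b ∈ MJ cs h X K')
      (hab : a * b ∈ MJ cs h X (K ∪ K')), (ψ ∘ e) ⟨a * b, hab⟩ = θ ⟨a, ha⟩ * θ' ⟨b, hb⟩ :=
    fun a ha b hb _ => hval a ha b hb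
  refine ⟨ψ ∘ e, Core.isIrr_comp e.toMonoidHom e.surjective hψ, ?_, hval'⟩
  intro i hi hf
  rcases hi with hi | hi
  · have hr : rad cs h X (K ∪ K') i = rad cs h X K i := ho.rad_eq hi
    have : Fintype (rad cs h X K i) := Fintype.ofFinite _
    have h1 : ∀ u : rad cs h X (K ∪ K') i, (ψ ∘ e) ⟨u, rad_le_MJ (K ∪ K') i u.2⟩ =
        θ ⟨u, rad_le_MJ K i (by rw [← hr]; exact u.2)⟩ * θ' 1 := by
      rintro ⟨u, hu⟩
      have h2 := hval' u (rad_le_MJ K i (by rw [← hr]; exact hu)) 1 (one_mem _)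
        (by rw [mul_one]; exact rad_le_MJ (K ∪ K') i hu)
      simp only [mul_one] at h2
      exact h2
    rw [Finset.sum_congr rfl fun u _ => h1 u, ← Finset.sum_mul]
    have h3 : ∑ u : rad cs h X (K ∪ K') i, θ ⟨u, rad_le_MJ K i (by rw [← hr]; exact u.2)⟩ =
        ∑ u : rad cs h X K i, θ ⟨u, rad_le_MJ K i u.2⟩ :=
      Fintype.sum_equiv (MulEquiv.subgroupCongr hr).toEquiv _ _ fun u => rfl
    rw [h3, hv i hi, zero_mul]
  · have hr : rad cs h X (K ∪ K') i = rad cs h X K' i := by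
      rw [Set.union_comm]
      exact ho.symm.rad_eq hi
    have : Fintype (rad cs h X K' i) := Fintype.ofFinite _
    have h1 : ∀ u : rad cs h X (K ∪ K') i, (ψ ∘ e) ⟨u, rad_le_MJ (K ∪ K') i u.2⟩ =
        θ 1 * θ' ⟨u, rad_le_MJ K' i (by rw [← hr]; exact u.2)⟩ := by
      rintro ⟨u, hu⟩
      have h2 := hval' 1 (one_mem _) u (rad_le_MJ K' i (by rw [← hr]; exact hu))
        (by rw [one_mul]; exact rad_le_MJ (K ∪ K') i hu)
      simp only [one_mul] at h2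
      exact h2
    rw [Finset.sum_congr rfl fun u _ => h1 u, ← Finset.mul_sum]
    have h3 : ∑ u : rad cs h X (K ∪ K') i, θ' ⟨u, rad_le_MJ K' i (by rw [← hr]; exact u.2)⟩ =
        ∑ u : rad cs h X K' i, θ' ⟨u, rad_le_MJ K' i u.2⟩ :=
      Fintype.sum_equiv (MulEquiv.subgroupCongr hr).toEquiv _ _ fun u => rfl
    rw [h3, hv' i hi, mul_zero]

/-- **Two components of type `A_2`**: a cuspidal character which is not fixed. -/
theorem two_cusp [Finite W] [Fintype Y] {J K L N : Set I} {j : I}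
    (hJ : ∀ i, i ∈ J ↔ i ≠ j) (hJK : J = K ∪ (L ∪ N)) (hoK : Orth A K (L ∪ N)) (hoL : Orth A L N) {k₀ k₁ l₀ l₁ : I}
    (hK : K = {k₀, k₁}) (hL : L = {l₀, l₁}) (hk : IsoPair A J k₀ k₁) (hl : IsoPair A J l₀ l₁)
    (hk1 : A k₁ j = 0) (hl1 : A l₁ j = 0) (h3 : ¬ (3 : ℤ) ∣ A k₀ j) (hkl : A l₀ j = A k₀ j)
    (hun : ∀ a b, IsoPair A J a b → (a = k₀ ∧ b = k₁) ∨ (a = k₁ ∧ b = k₀) ∨ (a = l₀ ∧ b = l₁) ∨ (a = l₁ ∧ b = l₀))
    {θ : ↥(MJ cs h X K) → ℂ} (hθ : Cusp cs h X K θ) (hns : NonSwap cs h X K k₀ k₁ θ)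
    {α α' : ↥(MJ cs h X L) → ℂ} (hα : Cusp cs h X L α) (hα' : Cusp cs h X L α')
    (hne : ∀ t (ht : t ∈ T), α' ≠ α ∘ conjME (MJ cs h X L) (T_le_normalizer_MJ R L ht))
    {β : ↥(MJ cs h X N) → ℂ} (hβ : Cusp cs h X N β) :
    ∃ ψ : ↥(MJ cs h X J) → ℂ, Cusp cs h X J ψ ∧
      (∀ w g (hg : Rp cs R.nsys w g), w ∉ WJ cs J → ∀ hw : Perm cs h J w,
        ∃ (m : Y) (hm : m ∈ MJ cs h X J), ψ ⟨g⁻¹ * m * g, conj_mem_MJ R hg hw hm⟩ ≠ ψ ⟨m, hm⟩) ∧
      ∃ d : ℕ, 0 < d ∧ ψ 1 = θ 1 * d := by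
  classical
  subst hJK
  -- the set of pairs to be avoided
  let Bad : (↥(MJ cs h X L) → ℂ) → Prop := fun γ => ∃ (w : W) (g : Y) (_ : Rp cs R.nsys w g)
    (_ : Perm cs h (K ∪ (L ∪ N)) w) (_ : w ∉ WJ cs (K ∪ (L ∪ N))) (hm : ∀ m ∈ MJ cs h X L, g⁻¹ * m * g ∈ MJ cs h X K)
    (c : ℂ), ∀ m : MJ cs h X L, γ m = c * θ ⟨g⁻¹ * m * g, hm m m.2⟩
  obtain ⟨γ, hγ, hbad⟩ : ∃ γ : ↥(MJ cs h X L) → ℂ, Cusp cs h X L γ ∧ ¬ Bad γ := by
    by_contra hcon
    push Not at hcon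
    obtain ⟨w, g, hg, hw, hwJ, hm, c, e⟩ := hcon α hα
    obtain ⟨w', g', hg', hw', hwJ', hm', c', e'⟩ := hcon α' hα'
    have ht := fix_of_two R hJ hw hwJ hw' hwJ' hg hg'
    refine hne _ ht ?_
    have hc0 : c ≠ 0 := by
      rintro rfl
      apply Core.isIrr_ne_zero hα.irr
      funext m
      rw [e, zero_mul]; rfl
    refine eq_of_smul (c := c' * c⁻¹) hα'.irr
      (Core.isIrr_comp (conjME _ (T_le_normalizer_MJ R L ht)).toMonoidHom (MulEquiv.surjective _) hα.irr) fun m => ?_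
    change α' m = c' * c⁻¹ * α (conjME _ (T_le_normalizer_MJ R L ht) m)
    rw [e', e]
    have e1 : (⟨g⁻¹ * (conjME (MJ cs h X L) (T_le_normalizer_MJ R L ht) m : Y) * g,
        hm _ (conjME (MJ cs h X L) (T_le_normalizer_MJ R L ht) m).2⟩ : MJ cs h X K) = ⟨g'⁻¹ * m * g', hm' m m.2⟩ := by
      apply Subtype.ext
      simp only [conjME_coe]
      group
    rw [e1]
    field_simp
  obtain ⟨δ, hδ, hδval⟩ := hγ.exists_prod R hoL hβ
  obtain ⟨ψ, hψ, hval⟩ := hθ.exists_prod R hoK hδ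
  have hval1 : ψ 1 = θ 1 * δ 1 := by
    obtain ⟨hab, e⟩ := hval 1 (one_mem _) 1 (one_mem _)
    simp only [mul_one] at e
    exact e
  obtain ⟨d, hd0, hd⟩ := Core.isIrr_apply_one hδ.irr
  refine ⟨ψ, hψ, ?_, d, hd0, by rw [hval1, hd]⟩
  intro w g hg hw hp
  rcases swap_or hJ hk hl hk1 hl1 h3 hkl hun hp hw with ⟨h0, h1⟩ | ⟨h0, h1⟩
  · exact not_stable_swap R rfl hoK hK hns hδ.irr hval hg hp h0 h1
  · by_contra hcon
    push Not at hcon
    apply hbad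
    have hm : ∀ m ∈ MJ cs h X L, g⁻¹ * m * g ∈ MJ cs h X K := by
      intro m hm
      refine conj_mem_Sup' R hg (S := RootsJ cs h L) (S' := RootsJ cs h K) (fun x hx => hx.1) ?_ hm
      intro x hx
      refine ⟨hx.1.act _, fun k hkK => ?_⟩
      rw [eq_sum_sr x, map_sum, Finset.sum_apply]
      refine Finset.sum_eq_zero fun i _ => ?_
      rw [map_smul, Pi.smul_apply]
      by_cases hi : i ∈ L
      · rw [hL] at hi
        have hk' : k ≠ k₀ ∧ k ≠ k₁ := by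
          constructor <;> rintro rfl <;> exact hkK (by rw [hK]; simp)
        rcases hi with rfl | rfl
        · rw [← h1, rep_inv_apply, sr_ne hk'.2, smul_zero]
        · rw [← h0, rep_inv_apply, sr_ne hk'.1, smul_zero]
      · rw [hx.2 i hi, zero_smul]
    have hKle : MJ cs h X K ≤ MJ cs h X (K ∪ (L ∪ N)) := by
      rw [hoK.MJ_union]; exact le_sup_left
    have hLNle : MJ cs h X (L ∪ N) ≤ MJ cs h X (K ∪ (L ∪ N)) := by
      rw [hoK.MJ_union]; exact le_sup_right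
    have hLle : MJ cs h X L ≤ MJ cs h X (L ∪ N) := by
      rw [hoL.MJ_union]; exact le_sup_left
    refine ⟨w, g, hg, hp, hw, hm, δ 1 / (θ 1 * β 1), fun m => ?_⟩
    have h2 := hcon m (hLNle (hLle m.2))
    obtain ⟨hab1, e1⟩ := hval (g⁻¹ * m * g) (hm m m.2) 1 (one_mem _)
    obtain ⟨hab2, e2⟩ := hval 1 (one_mem _) m (hLle m.2)
    obtain ⟨hab3, e3⟩ := hδval m m.2 1 (one_mem _)
    simp only [mul_one] at e1
    simp only [one_mul] at e2
    simp only [mul_one] at e3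
    have e4 : θ ⟨g⁻¹ * m * g, hm m m.2⟩ * δ 1 = θ 1 * (γ m * β 1) :=
      (e1.symm.trans h2).trans (e2.trans (congrArg (θ 1 * ·) e3))
    have hθ1 := Core.isIrr_apply_one_ne_zero hθ.irr
    have hβ1 := Core.isIrr_apply_one_ne_zero hβ.irr
    field_simp
    rw [mul_comm (δ 1), e4]
    ring

end Cfsg.Agent.H239.RIM
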