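import Cfsg.Agent.H622.Levi.NonSwap
import Cfsg.Agent.H690.Van

/-!
# Cuspidal characters of `SL_n(q)` with a prescribed central character (S4816, helper239)

* `mul_of_con` : a constituent of a character with scalar action of `z` has the same scalar;
* `exists_sl_over` : constituents of the restriction of a cuspidal character of `GL_n(F)`;
* `exists_eta_over` : a cuspidal character of `SL_3(F)` with `η (z g) = ω η g` for a given scalar matrix `z ≠ 1` of order
  `3` and a given `ω ≠ 1`, `ω ^ 3 = 1`.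
-/

set_option autoImplicit false
set_option linter.unusedSectionVars false

namespace Cfsg.Agent.H239.RIM

open Cfsg Cfsg.Agent.Characters Cfsg.Agent.Characters.Core Cfsg.Agent.H622.Levi
open Cfsg.Agent.H53.HC (IsCusp)
open Matrix
open scoped ComplexConjugate

universe u v

/-- **The scalar of a central element** on a constituent. -/
theorem mul_of_con {S : Type u} [Group S] [Finite S] {η ψ : S → ℂ} (hη : IsIrrCharacter S η)
    (hψ : IsCharacter S (ψ - η)) {z : S} (hz : z ∈ Subgroup.center S) {c : ℂ}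
    (h : ∀ g, ψ (z * g) = c * ψ g) (g : S) : η (z * g) = c * η g := by
  classical
  have : Fintype S := Fintype.ofFinite S
  obtain ⟨c₁, hc₁⟩ : ∃ c₁ : ℂ, ∀ y, η (z * y) = c₁ * η y :=
    ⟨_, H690.Van.central_mul (⟨η, hη⟩ : IrrCharacter S) hz⟩
  -- `|c₁| = 1`
  have key : ∀ (α : S → ℂ) (a : ℂ), (∀ g, α (z * g) = a * α g) →
      ∑ g, α g * conj (η g) = a * conj c₁ * ∑ g, α g * conj (η g) := by
    intro α a ha
    rw [Finset.mul_sum]
    refine (Equiv.sum_comp (Equiv.mulLeft z) fun g => α g * conj (η g)).symm.trans ?_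
    refine Finset.sum_congr rfl fun g _ => ?_
    rw [Equiv.coe_mulLeft, ha, hc₁, map_mul]
    ring
  have hcard : (Nat.card S : ℂ) ≠ 0 := card_ne_zero_complex
  have h1 : ∑ g, η g * conj (η g) ≠ 0 := by
    intro h0
    have h2 := classInner_irr_self hη
    rw [classInner_def, h0, mul_zero] at h2
    exact zero_ne_one h2
  have h2 : c₁ * conj c₁ = 1 := by
    have h3 := key η c₁ hc₁
    have h4 : (c₁ * conj c₁ - 1) * ∑ g, η g * conj (η g) = 0 := by rw [sub_mul, one_mul, ← h3, sub_self]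
    exact sub_eq_zero.1 ((mul_eq_zero.1 h4).resolve_right h1)
  have h3 : ∑ g, ψ g * conj (η g) ≠ 0 := by
    intro h0
    obtain ⟨k, hk⟩ := classInner_isNat hψ (isIrr_isCharacter hη)
    have h4 : classInner (ψ - η) η = classInner ψ η - classInner η η := by
      simp only [classInner_def, ← mul_sub, ← Finset.sum_sub_distrib, Pi.sub_apply, sub_mul]
    rw [classInner_irr_self hη, classInner_def ψ, h0, mul_zero, hk] at h4
    have h5 : ((k + 1 : ℕ) : ℂ) = 0 := by push_cast; rw [h4]; ring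
    rw [Nat.cast_eq_zero] at h5
    omega
  have h4 : c * conj c₁ = 1 := by
    have h5 := key ψ c h
    have h6 : (c * conj c₁ - 1) * ∑ g, ψ g * conj (η g) = 0 := by rw [sub_mul, one_mul, ← h5, sub_self]
    exact sub_eq_zero.1 ((mul_eq_zero.1 h6).resolve_right h3)
  have h5 : c₁ = c := by
    calc c₁ = (c * conj c₁) * c₁ := by rw [h4, one_mul]
      _ = c * (c₁ * conj c₁) := by ring
      _ = c := by rw [h2, mul_one]
  rw [hc₁, h5]

variable {m : ℕ} {F : Type u} [Field F] [Finite F]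

theorem normal_range_toGL : (SpecialLinearGroup.toGL (n := Fin (m + 1)) (R := F)).range.Normal := by
  constructor
  rintro _ ⟨n, rfl⟩ g
  have h1 : Matrix.det ((g * SpecialLinearGroup.toGL n * g⁻¹ : GL (Fin (m + 1)) F).1) = 1 := by
    rw [Units.val_mul, Units.val_mul, det_mul, det_mul]
    have h2 : Matrix.det g.1 * Matrix.det (g⁻¹ : GL (Fin (m + 1)) F).1 = 1 := by
      rw [← det_mul, ← Units.val_mul, mul_inv_cancel, Units.val_one, det_one]
    have h3 : Matrix.det (SpecialLinearGroup.toGL n).1 = 1 := n.2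
    rw [h3, mul_one, h2]
  refine ⟨⟨_, h1⟩, ?_⟩
  apply Units.ext
  rfl

/-- **Constituents of the restriction to `SL_n`**, with the scalars. -/
theorem exists_sl_over {Ψ : GL (Fin (m + 1)) F → ℂ} (hΨ : IsIrrCharacter _ Ψ) (hc : IsCusp Ψ) :
    ∃ η : SpecialLinearGroup (Fin (m + 1)) F → ℂ, IsIrrCharacter _ η ∧
      (∀ (z : SpecialLinearGroup (Fin (m + 1)) F) (ω : ℂ), z ∈ Subgroup.center _ →
        (∀ g, Ψ (SpecialLinearGroup.toGL z * g) = ω * Ψ g) → ∀ g, η (z * g) = ω * η g) ∧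
      ∀ i : Fin m, ∀ [Fintype (UU F i)], ∑ g : UU F i, η g = 0 := by
  classical
  obtain ⟨d, -, hd⟩ := isIrr_apply_one hΨ
  obtain ⟨η, e, t, h3, h4, -, -, -⟩ := exists_con (SpecialLinearGroup.toGL (n := Fin (m + 1)) (R := F))
    normal_range_toGL hΨ hd
  refine ⟨η, h3, fun z ω hz h g => ?_, fun i _ => ?_⟩
  · refine mul_of_con h3 h4 hz (fun g => ?_) g
    rw [Function.comp_apply, Function.comp_apply, map_mul, h]
  · refine sum_eq_zero_of_add (isIrr_isCharacter h3) h4 (UU F i) ?_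
    rw [← sum_UU (isIrr_isClassFunction hΨ) hc i]
    refine Finset.sum_congr rfl fun g _ => ?_
    rw [Pi.sub_apply, add_sub_cancel, Function.comp_apply]

/-- a cube root of unity other than one, up to inversion -/
theorem cube_pow {ζ ω : ℂ} (hζ : ζ ^ 3 = 1) (hζ1 : ζ ≠ 1) (hω : ω ^ 3 = 1) (hω1 : ω ≠ 1) : ω = ζ ^ 1 ∨ ω = ζ ^ 2 := by
  have h1 : ζ ^ 2 + ζ + 1 = 0 := by
    have : (ζ - 1) * (ζ ^ 2 + ζ + 1) = 0 := by linear_combination hζ
    exact (mul_eq_zero.1 this).resolve_left (sub_ne_zero.2 hζ1)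
  have h2 : (ω - 1) * ((ω - ζ) * (ω - ζ ^ 2)) = 0 := by
    linear_combination hω - (ω - 1) * ω * h1 + (ω - 1) * hζ
  rcases mul_eq_zero.1 ((mul_eq_zero.1 h2).resolve_left (sub_ne_zero.2 hω1)) with h3 | h3
  · left; rw [pow_one]; exact sub_eq_zero.1 h3
  · right; exact sub_eq_zero.1 h3

theorem not_dvd_small {q i j : ℕ} (hq : 2 ≤ q) (hi : i ≠ 0) (hi2 : i ≤ 2) (hj : 0 < j) (hj3 : j < 3) :
    ¬ (q ^ 3 - 1) ∣ i * (q ^ j - 1) := by
  intro hdvd
  have h1 : 0 < q ^ j - 1 := Nat.sub_pos_of_lt (Nat.one_lt_pow (by omega) hq)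
  have h2 := Nat.le_of_dvd (Nat.mul_pos (Nat.pos_of_ne_zero hi) h1) hdvd
  have h3 : q ^ j ≤ q ^ 2 := Nat.pow_le_pow_right (by omega) (by omega)
  have h4 : i * (q ^ j - 1) ≤ 2 * (q ^ 2 - 1) := Nat.mul_le_mul hi2 (by omega)
  have h5 : 2 * q ^ 2 ≤ q ^ 3 := by
    rw [pow_succ q 2, mul_comm]
    exact Nat.mul_le_mul_left _ hq
  have h6 : 0 < q ^ 2 := by positivity
  omega

/-- **A cuspidal character of `SL_3(F)` with a prescribed non-trivial central character.** -/
theorem exists_eta_over {F : Type} [Field F] [Finite F] {z : SpecialLinearGroup (Fin 3) F} {a : F}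
    (hz : z.1 = scalar (Fin 3) a) (ha1 : a ≠ 1) {ω : ℂ} (hω : ω ^ 3 = 1) (hω1 : ω ≠ 1) :
    ∃ η : SpecialLinearGroup (Fin 3) F → ℂ, IsIrrCharacter _ η ∧ (∀ g, η (z * g) = ω * η g) ∧
      ∀ i : Fin 2, ∀ [Fintype (UU F i)], ∑ g : UU F i, η g = 0 := by
  obtain ⟨L, _, _, _, hL⟩ : ∃ (L : Type) (_ : Field L) (_ : Algebra F L) (_ : Finite L),
      Module.finrank F L = 3 := by
    obtain ⟨p, hp⟩ := CharP.exists F
    have : Fact p.Prime := ⟨CharP.char_is_prime F p⟩
    exact ⟨FiniteField.Extension F p 3, inferInstance, inferInstance, inferInstance,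
      FiniteField.finrank_extension F p 3⟩
  obtain ⟨θ, hθ⟩ := H139.Cusp.exists_theta L
  have ha3 : a ^ 3 = 1 := by
    have h1 : z.1.det = 1 := z.2
    rw [hz, scalar_apply, det_diagonal] at h1
    simpa using h1
  have ha0 : a ≠ 0 := by
    rintro rfl
    norm_num at ha3
  have hζ3 : θ (algebraMap F L a) ^ 3 = 1 := by rw [← map_pow, ← map_pow, ha3, map_one, map_one]
  have hζ1 : θ (algebraMap F L a) ≠ 1 := by
    intro h
    apply ha1
    apply (algebraMap F L).injective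
    apply hθ
    rw [h, map_one, map_one]
  obtain ⟨i, hi0, hi2, hi⟩ : ∃ i : ℕ, i ≠ 0 ∧ i ≤ 2 ∧ ω = θ (algebraMap F L a) ^ i := by
    rcases cube_pow hζ3 hζ1 hω hω1 with h | h
    · exact ⟨1, by norm_num, by norm_num, h⟩
    · exact ⟨2, by norm_num, by norm_num, h⟩
  have hreg : H139.Cusp.Regular F 3 (H139.Cusp.powTheta θ i hi0) := by
    rw [H139.Cusp.regular_powTheta_iff hθ hi0 hL]
    intro j hj hj3
    exact not_dvd_small Finite.one_lt_card hi0 hi2 hj hj3
  obtain ⟨η, h1, h2, h3⟩ := exists_sl_over (m := 2) (H139.Cusp.psi_isIrr (n := 3) (H139.Cusp.powTheta θ i hi0) hL hreg)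
    (H139.Cusp.psi_isCusp L _)
  refine ⟨η, h1, h2 z ω ?_ fun g => ?_, h3⟩
  · rw [Matrix.SpecialLinearGroup.mem_center_iff]
    exact ⟨a, by rw [Fintype.card_fin]; exact ha3, hz.symm⟩
  · have e : SpecialLinearGroup.toGL z = GeneralLinearGroup.scalar (Fin 3) (Units.mk0 a ha0) := by
      apply Units.ext
      exact hz
    rw [e, H139.Cusp.psi_scalar _ hL, H139.Cusp.powTheta_apply, hi]
    rfl

end Cfsg.Agent.H239.RIM
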